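import Cfsg.Agent.H349.K6.Elts
import Cfsg.Agent.H129.TorusChar
import Cfsg.Agent.BpExc.RowsUntw

/-!
# The 2-part of the centralisers of the elements of odd prime order: tools (S5745, own rows; helper129)

* `exists_coef` : the characters of a torus element of prime order `r` are `ζ ^ (∑ c_i a_i)`, `c` normalised;
* `cnt`, `chk` : the kernel check for rank four.
-/

set_option autoImplicit false
set_option linter.unusedSectionVars false

namespace Cfsg.Agent.H129.Q2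

open CoxeterSystem Cfsg Cfsg.Lie Cfsg.Lie.ChevalleyDatum
open Cfsg.Agent.ChevalleyStructure Cfsg.Agent.ChevalleyStructure.Elts Cfsg.Agent.ChevalleyStructure.CoxeterGeom
  Cfsg.Agent.ChevalleyStructure.CoxeterGeomTypes Cfsg.Agent.ChevalleyStructure.NPerm
open Cfsg.Agent.Tits.Roots Cfsg.Agent.Tits.Core Cfsg.Agent.Nodes Cfsg.Agent.Nodes.Reps Cfsg.Agent.Nodes.BNOf
  Cfsg.Agent.Nodes.RGDChev Cfsg.Agent.Nodes.Bruhat
open Cfsg.Agent.KFacts.RgdField Cfsg.Agent.KFacts.RgdChevCoord Cfsg.Agent.BpExc.TorCent Cfsg.Agent.BpExc.TorChev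
open Cfsg.Agent.H129.TorusChar Cfsg.Agent.H316.U6 Cfsg.Agent.H469.Exc

section

variable {D : ChevalleyDatum} {l : ℕ} {M : CoxeterMatrix (Fin l)} (hp : IsType D l M) {k : Type*} [Field k]

theorem exists_coef {t : ↥(D.group k)} (ht : t ∈ TT D k) {r : ℕ} (hr : r.Prime) (htr : t ^ r = 1) (h1 : t ≠ 1) :
    ∃ (c : Fin l → ℕ) (i₀ : Fin l), (∀ i, c i < r) ∧ c i₀ = 1 ∧ (∀ j < i₀, c j = 0) ∧
      ∀ a : Fin l → ℤ, cX hp t a = 1 ↔ (r : ℤ) ∣ ∑ i, (c i : ℤ) * a i := by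
  classical
  have hex : ∃ n : ℕ, ∃ h : n < l, cX hp t (sr ⟨n, h⟩) ≠ 1 := by
    by_contra hcon
    push Not at hcon
    exact h1 (cX_inj hp ht (one_mem _) fun i => by rw [hcon i.1 i.2, cX_one])
  obtain ⟨hn, hne⟩ := Nat.find_spec hex
  have hmin : ∀ j : Fin l, j.1 < Nat.find hex → cX hp t (sr j) = 1 := by
    intro j hj
    by_contra h
    exact Nat.find_min hex hj ⟨j.2, h⟩
  set i₀ : Fin l := ⟨Nat.find hex, hn⟩ with hi₀
  set ζ := cX hp t (sr i₀) with hζd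
  have hpow : ∀ x, cX hp t x ^ r = 1 := fun x => by rw [← cX_pow hp ht, htr, cX_one]
  have hζ : IsPrimitiveRoot ζ r := by
    have h2 : orderOf ζ = r := orderOf_eq_prime (hp := ⟨hr⟩) (hpow _) hne
    rw [← h2]
    exact IsPrimitiveRoot.orderOf ζ
  have hζ0 : ζ ≠ 0 := hζ.ne_zero hr.ne_zero
  have hch : ∀ j : Fin l, ∃ c < r, ζ ^ c = cX hp t (sr j) := fun j => by
    have : NeZero r := ⟨hr.ne_zero⟩
    obtain ⟨c, hc, h2⟩ := hζ.eq_pow_of_pow_eq_one (hpow (sr j))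
    exact ⟨c, hc, h2⟩
  choose d hd hd' using hch
  let c : Fin l → ℕ := fun j => if j = i₀ then 1 else if j < i₀ then 0 else d j
  have hc : ∀ j, ζ ^ c j = cX hp t (sr j) := by
    intro j
    show ζ ^ (if j = i₀ then 1 else if j < i₀ then 0 else d j) = _
    split_ifs with h2 h3
    · rw [h2, pow_one]
    · rw [pow_zero, hmin j h3]
    · exact hd' j
  refine ⟨c, i₀, fun j => ?_, ?_, ?_, fun a => ?_⟩
  · show (if j = i₀ then 1 else if j < i₀ then 0 else d j) < r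
    split_ifs
    · exact hr.one_lt
    · exact hr.pos
    · exact hd j
  · show (if i₀ = i₀ then 1 else if i₀ < i₀ then 0 else d i₀) = 1
    rw [if_pos rfl]
  · intro j hj
    show (if j = i₀ then 1 else if j < i₀ then 0 else d j) = 0
    rw [if_neg hj.ne, if_pos hj]
  · have h2 : cX hp t a = ζ ^ (∑ i, (c i : ℤ) * a i) := by
      have h3 : ∀ s : Finset (Fin l), ∏ i ∈ s, ch hp (sr i) t ^ a i = ζ ^ (∑ i ∈ s, (c i : ℤ) * a i) := by
        intro s
        induction s using Finset.induction_on with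
        | empty => rw [Finset.prod_empty, Finset.sum_empty, zpow_zero]
        | insert b s hb ih =>
          rw [Finset.prod_insert hb, Finset.sum_insert hb, ih, zpow_add₀ hζ0, ← cX_sr hp t b, ← hc b,
            zpow_mul, zpow_natCast]
      exact h3 Finset.univ
    rw [h2]
    exact hζ.zpow_eq_one_iff_dvd _

end

/-! ### the check in rank four -/

/-- the number of the rows of `L` orthogonal to `(c0, c1, c2, c3)` mod `r` -/
def cnt (r c0 c1 c2 c3 : ℕ) : List (ℕ × ℕ × ℕ × ℕ) → ℕ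
  | [] => 0
  | b :: L => if Nat.beq ((c0 * b.1 + (c1 * b.2.1 + (c2 * b.2.2.1 + c3 * b.2.2.2))) % r) 0 then cnt r c0 c1 c2 c3 L + 1
    else cnt r c0 c1 c2 c3 L

def chk (n r : ℕ) (L : List (ℕ × ℕ × ℕ × ℕ)) : Bool :=
  ((List.range r).all fun c1 => (List.range r).all fun c2 => (List.range r).all fun c3 => Nat.ble (cnt r 1 c1 c2 c3 L) n) &&
  ((List.range r).all fun c2 => (List.range r).all fun c3 => Nat.ble (cnt r 0 1 c2 c3 L) n) &&
  ((List.range r).all fun c3 => Nat.ble (cnt r 0 0 1 c3 L) n) &&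
  Nat.ble (cnt r 0 0 0 1 L) n

theorem cnt_eq (r c0 c1 c2 c3 : ℕ) (L : List (ℕ × ℕ × ℕ × ℕ)) : cnt r c0 c1 c2 c3 L =
    (L.filter fun b => Nat.beq ((c0 * b.1 + (c1 * b.2.1 + (c2 * b.2.2.1 + c3 * b.2.2.2))) % r) 0).length := by
  induction L with
  | nil => rfl
  | cons b L ih =>
    rw [cnt, List.filter_cons, ih]
    split_ifs
    · rfl
    · rfl

theorem chk_spec {n r : ℕ} {L : List (ℕ × ℕ × ℕ × ℕ)} (h : chk n r L = true) {c : Fin 4 → ℕ} (hc : ∀ i, c i < r)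
    {i₀ : Fin 4} (h1 : c i₀ = 1) (h0 : ∀ j < i₀, c j = 0) : cnt r (c 0) (c 1) (c 2) (c 3) L ≤ n := by
  simp only [chk, Bool.and_eq_true, List.all_eq_true, List.mem_range] at h
  obtain ⟨⟨⟨h2, h3⟩, h4⟩, h5⟩ := h
  have h6 : ∀ i : Fin 4, i = 0 ∨ i = 1 ∨ i = 2 ∨ i = 3 := by decide
  obtain rfl | rfl | rfl | rfl := h6 i₀
  · rw [h1]
    exact Nat.le_of_ble_eq_true (h2 _ (hc 1) _ (hc 2) _ (hc 3))
  · rw [h1, h0 0 (by decide)]
    exact Nat.le_of_ble_eq_true (h3 _ (hc 2) _ (hc 3))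
  · rw [h1, h0 0 (by decide), h0 1 (by decide)]
    exact Nat.le_of_ble_eq_true (h4 _ (hc 3))
  · rw [h1, h0 0 (by decide), h0 1 (by decide), h0 2 (by decide)]
    exact Nat.le_of_ble_eq_true h5

/-- a row as a vector -/
def toV (b : ℕ × ℕ × ℕ × ℕ) : Fin 4 → ℤ := ![(b.1 : ℤ), (b.2.1 : ℤ), (b.2.2.1 : ℤ), (b.2.2.2 : ℤ)]

/-- **The number of the vectors of the list killed by `c`.** -/
theorem ncard_le {r : ℕ} {L : List (ℕ × ℕ × ℕ × ℕ)} {c : Fin 4 → ℕ} {S : Set (Fin 4 → ℤ)}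
    (hS : ∀ a ∈ S, (∃ b ∈ L, a = toV b) ∧ (r : ℤ) ∣ ∑ i, (c i : ℤ) * a i) :
    S.ncard ≤ cnt r (c 0) (c 1) (c 2) (c 3) L := by
  classical
  rw [cnt_eq]
  set L' := L.filter fun b => Nat.beq ((c 0 * b.1 + (c 1 * b.2.1 + (c 2 * b.2.2.1 + c 3 * b.2.2.2))) % r) 0 with hL'
  have h1 : S ⊆ ((L'.toFinset.image toV : Finset (Fin 4 → ℤ)) : Set (Fin 4 → ℤ)) := by
    intro a ha
    obtain ⟨⟨b, hb, rfl⟩, h2⟩ := hS a ha
    rw [Finset.coe_image]
    refine ⟨b, ?_, rfl⟩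
    rw [Finset.mem_coe, List.mem_toFinset, hL', List.mem_filter]
    refine ⟨hb, ?_⟩
    have h3 : ((∑ i, (c i : ℤ) * toV b i) : ℤ) =
        ((c 0 * b.1 + (c 1 * b.2.1 + (c 2 * b.2.2.1 + c 3 * b.2.2.2)) : ℕ) : ℤ) := by
      rw [Fin.sum_univ_four]
      simp only [toV, Matrix.cons_val_zero, Matrix.cons_val_one, Matrix.cons_val]
      push_cast
      ring
    rw [h3, Int.natCast_dvd_natCast] at h2
    rw [Nat.mod_eq_zero_of_dvd h2]
    rfl
  calc S.ncard ≤ (((L'.toFinset.image toV : Finset (Fin 4 → ℤ)) : Set (Fin 4 → ℤ))).ncard :=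
        Set.ncard_le_ncard h1 (Finset.finite_toSet _)
    _ = (L'.toFinset.image toV).card := Set.ncard_coe_finset _
    _ ≤ L'.toFinset.card := Finset.card_image_le
    _ ≤ L'.length := List.toFinset_card_le _

end Cfsg.Agent.H129.Q2
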