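import Cfsg.Agent.H129.Q2.Base
import Cfsg.Agent.S1062

/-!
# The 2-part of the centralisers of the elements of odd prime order in `F₄(2)` (S5745, own rows; helper129)

* `fact_f4` : `|C(y)|_2 ≤ 2 ^ 9` for `y` of odd prime order in `F₄(2)`.
-/

set_option autoImplicit false
set_option linter.unusedSectionVars false

namespace Cfsg.Agent.H129.Q2

open CoxeterSystem Cfsg Cfsg.Lie Cfsg.Lie.ChevalleyDatum
open Cfsg.Agent.ChevalleyStructure Cfsg.Agent.ChevalleyStructure.Elts Cfsg.Agent.ChevalleyStructure.CoxeterGeom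
  Cfsg.Agent.ChevalleyStructure.CoxeterGeomTypes Cfsg.Agent.ChevalleyStructure.NPerm
open Cfsg.Agent.Tits.Roots Cfsg.Agent.Tits.Core Cfsg.Agent.Nodes Cfsg.Agent.Nodes.Reps Cfsg.Agent.Nodes.BNOf
  Cfsg.Agent.Nodes.RGDChev Cfsg.Agent.Nodes.Bruhat
open Cfsg.Agent.KFacts.RgdField Cfsg.Agent.KFacts.RgdChevCoord Cfsg.Agent.BpExc.TorCent Cfsg.Agent.BpExc.TorChev
open Cfsg.Agent.H129.TorusChar Cfsg.Agent.H316.U6 Cfsg.Agent.H469.Exc

def tabF : List (ℕ × ℕ × ℕ × ℕ) :=
  [(0,0,0,1), (0,0,1,0), (0,0,1,1), (0,1,0,0), (0,1,1,0), (0,1,1,1), (0,2,1,0), (0,2,1,1), (0,2,2,1), (1,0,0,0),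
   (1,1,0,0), (1,1,1,0), (1,1,1,1), (1,2,1,0), (1,2,1,1), (1,2,2,1), (1,3,2,1), (2,2,1,0), (2,2,1,1), (2,2,2,1),
   (2,3,2,1), (2,4,2,1), (2,4,3,1), (2,4,3,2)]

theorem chk3 : chk 9 3 tabF = true := by decide +kernel
theorem chk5 : chk 9 5 tabF = true := by decide +kernel
theorem chk7 : chk 9 7 tabF = true := by decide +kernel
theorem chk13 : chk 9 13 tabF = true := by decide +kernel
theorem chk17 : chk 9 17 tabF = true := by decide +kernel

theorem tabF_ok : ∀ y < 48, (∀ i : Fin 4, 0 ≤ vec chevF4 4 y i) → ∃ b ∈ tabF,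
    vec chevF4 4 y = toV b := by decide +kernel

/-- `|F₄(2)|` -/
theorem card_f4_two {F : Type} [Field F] [Fintype F] (hF : Fintype.card F = 2) :
    Nat.card ↥(chevF4.group F) = 2 ^ 24 * 3 ^ 6 * 5 ^ 2 * 7 ^ 2 * 13 * 17 := by
  rw [Cfsg.Agent.S1062.result hF]
  norm_num

theorem isTypeF4 : IsType chevF4 4 CoxeterMatrix.F₄ := by simp [IsType, typeList]

theorem fact_f4 {T : Type*} [Group T] [Finite T] {F : Type} [Field F] [Fintype F] (hF : Fintype.card F = 2)
    (E : T ≃* ↥(Cfsg.Lie.chevF4.group F)) {y : T} {r : ℕ} (hr : r.Prime) (h2 : r ≠ 2) (hy : y ^ r = 1) (h1 : y ≠ 1) :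
    (Nat.card ↥(Subgroup.centralizer {y})).factorization 2 ≤ 9 := by
  have : CharP F 2 := by
    have h3 : IsPrimePow (Fintype.card F) := by rw [hF]; exact Nat.prime_two.isPrimePow
    obtain ⟨p, hp⟩ := CharP.exists F
    have hpp : Fact p.Prime := ⟨CharP.char_is_prime F p⟩
    obtain ⟨n, hn⟩ := FiniteField.card F p
    rw [hF] at hn
    have h4 : p = 2 := by
      have h5 : p ∣ 2 := by rw [hn.2]; exact dvd_pow_self p n.pos.ne'
      exact (Nat.prime_dvd_prime_iff_eq hpp.out Nat.prime_two).1 h5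
    rwa [h4] at hp
  have : Fact (Nat.Prime 2) := ⟨Nat.prime_two⟩
  have hrf : Fact r.Prime := ⟨hr⟩
  obtain ⟨m0, -, -⟩ := mdata_untw (r := 2) isTypeF4 (fun h => absurd (congrArg ChevalleyDatum.nroots h) (by decide +kernel))
    (fun h => absurd (congrArg ChevalleyDatum.nroots h) (by decide +kernel)) F
  let m := m0.congr E
  have hs := Cfsg.Agent.H349.K6.setup m
  have he : m.e = 1 := by
    have h3 := m.hq.trans hF
    exact Nat.pow_right_injective (le_refl 2) (h3.trans (pow_one 2).symm)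
  -- `r` is one of five primes
  have hrd : r ∈ [3, 5, 7, 13, 17] := by
    have h3 : r ∣ Nat.card T := by
      rw [← orderOf_eq_prime hy h1]
      exact orderOf_dvd_natCard y
    rw [Nat.card_congr E.toEquiv, card_f4_two hF] at h3
    have h4 : ∀ {a : ℕ}, a.Prime → ∀ {n : ℕ}, r ∣ a ^ n → r = a := fun ha _ h =>
      (Nat.prime_dvd_prime_iff_eq hr ha).1 (hr.dvd_of_dvd_pow h)
    rcases hr.dvd_mul.1 h3 with h3 | h3
    · rcases hr.dvd_mul.1 h3 with h3 | h3
      · rcases hr.dvd_mul.1 h3 with h3 | h3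
        · rcases hr.dvd_mul.1 h3 with h3 | h3
          · rcases hr.dvd_mul.1 h3 with h3 | h3
            · exact absurd (h4 Nat.prime_two h3) h2
            · rw [h4 Nat.prime_three h3]; decide
          · rw [h4 Nat.prime_five h3]; decide
        · rw [h4 (by norm_num) h3]; decide
      · rw [(Nat.prime_dvd_prime_iff_eq hr (by norm_num)).1 h3]; decide
    · rw [(Nat.prime_dvd_prime_iff_eq hr (by norm_num)).1 h3]; decide
  obtain ⟨z, hz⟩ := Cfsg.Agent.BpExc.TorAll.exists_toral' isTypeF4 2 hr h2 (y := m.ι y)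
    (by rw [← map_pow, hy, map_one])
  set t := z⁻¹ * m.ι y * z with ht
  have h3 := Cfsg.Agent.H461.E2.Cent.card_centralizer (locFin 2) hs (hr) h2 hy (z := z) (t := t) rfl hz
  rw [h3, he, one_mul]
  have htr : t ^ r = 1 := by
    have e1 : t = z⁻¹ * m.ι y * z⁻¹⁻¹ := by rw [inv_inv]
    rw [e1, conj_pow, ← map_pow, hy, map_one, mul_one, inv_inv, inv_mul_cancel]
  have ht1 : t ≠ 1 := by
    intro h
    apply h1
    apply m.inj
    rw [map_one]
    have e1 : m.ι y = z * t * z⁻¹ := by rw [ht]; group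
    rw [e1, h, mul_one, mul_inv_cancel]
  obtain ⟨c, i₀, hc, hc1, hc0, hcX⟩ := exists_coef isTypeF4 hz hr htr ht1
  refine (ncard_le (r := r) (L := tabF) (c := c) ?_).trans ?_
  · rintro a ⟨ha, hca, h0⟩
    constructor
    · obtain ⟨s, hs', rfl⟩ := (isRoot_iff isTypeF4 _ a).1 ha
      exact tabF_ok s hs' h0
    · rw [← hcX, cX_root isTypeF4 _ hz ha]
      exact hca
  · simp only [List.mem_cons, List.not_mem_nil, or_false] at hrd
    rcases hrd with rfl | rfl | rfl | rfl | rfl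
    · exact chk_spec chk3 hc hc1 hc0
    · exact chk_spec chk5 hc hc1 hc0
    · exact chk_spec chk7 hc hc1 hc0
    · exact chk_spec chk13 hc hc1 hc0
    · exact chk_spec chk17 hc hc1 hc0

end Cfsg.Agent.H129.Q2
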